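import Cfsg.Agent.BHZ.Exc.AY
import Cfsg.Agent.H83.RootCount

/-!
# S4817, `E₆`, `p = 3`: traces on the coset of the connected centralizer of type `A₂³` (helper39)

* `trace_sum` : `tr b + tr (t b) + tr (t² b) = 0` if `b` permutes the three components;
* `trace_typA` : the elements of type `A₂³` have the trace `-3`.
-/

set_option autoImplicit false
set_option linter.unusedSectionVars false
set_option maxRecDepth 100000

namespace Cfsg.Agent.TO.E6.NA

open Cfsg Cfsg.Lie Matrix Cfsg.Agent.BHZ.Exc Cfsg.Agent.BHZ.Exc.AA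
open Cfsg.Agent.Nodes Cfsg.Agent.Nodes.BNOf Cfsg.Agent.Nodes.RGDChev Cfsg.Agent.KFacts.RgdChevCoord
open Cfsg.Agent.ChevalleyStructure.Columns (car cor xMat_inl_inl xMat_inr_inl xMat_inl_inr xMat_inr_inr)
open Cfsg.Agent.H469.Exc (KK)
open Cfsg.Agent.DS.Ex (YY hpE6)
open Cfsg.Agent.DS.Nt (DZ)
open Cfsg.Agent.H129.TorusChar (cX)

section Rows

variable {F : Type*} [Field F] {D : ChevalleyDatum} {a n s : Fin D.nroots} {u : F} {v : D.Idx → F}

theorem row_inl (hn : n.val = D.neg a) (hna : n ≠ a) (i : Fin D.rank) :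
    (D.xMat F a u *ᵥ v) (.inl i) = v (.inl i) + (cor D a i : F) * u * v (.inr n) := by
  rw [mulVec, dotProduct, Fintype.sum_sum_type, Finset.sum_eq_single i, Finset.sum_eq_single n]
  · rw [xMat_inl_inl, xMat_inl_inr, if_pos rfl, if_neg hna, if_pos (show n.val = D.negIdx.getD a.val 0 from hn), one_mul]
  · intro s _ hs
    rw [xMat_inl_inr, if_neg (show ¬ s.val = D.negIdx.getD a.val 0 from fun e => hs (Fin.ext (e.trans hn.symm))), ite_self,
      zero_mul]
  · exact fun h => absurd (Finset.mem_univ _) h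
  · intro j _ hj
    rw [xMat_inl_inl, if_neg hj.symm, zero_mul]
  · exact fun h => absurd (Finset.mem_univ _) h

theorem row_inr (hn : n.val = D.neg a) (h0 : v (.inr n) = 0) (hc : ∀ s : Fin D.nroots, D.chainCoeff a s a = []) :
    (D.xMat F a u *ᵥ v) (.inr a) = -(u * ∑ i : Fin D.rank, (car D i a : F) * v (.inl i)) + v (.inr a) := by
  rw [mulVec, dotProduct, Fintype.sum_sum_type, Finset.sum_eq_single a, Finset.mul_sum, ← Finset.sum_neg_distrib]
  · rw [xMat_inr_inr, if_pos rfl, if_pos rfl, one_mul]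
    refine congrArg (· + _) (Finset.sum_congr rfl fun i _ => ?_)
    rw [xMat_inr_inl, if_pos rfl]
    ring
  · intro s _ hs
    by_cases e : s.val = D.negIdx.getD a.val 0
    · rw [show s = n from Fin.ext (e.trans hn.symm), h0, mul_zero]
    · rw [xMat_inr_inr, if_neg hs, if_neg e, if_neg hs.symm, hc, List.map_nil, List.sum_nil, add_zero, zero_mul]
  · exact fun h => absurd (Finset.mem_univ _) h

theorem col_e (h1 : s ≠ a) (h2 : s.val ≠ D.neg a) (h3 : (D.chain.getD a #[]).toList.filter (fun e => e.1 = s.val) = []) :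
    D.xMat F a u *ᵥ Pi.single (.inr s) 1 = Pi.single (.inr s) 1 := by
  rw [mulVec_single_one]
  funext w
  rcases w with i | w
  · show D.xMat F a u (.inl i) (.inr s) = _
    rw [xMat_inl_inr, if_neg h1, if_neg (show ¬ s.val = D.negIdx.getD a.val 0 from h2), Pi.single_eq_of_ne (by simp)]
  · show D.xMat F a u (.inr w) (.inr s) = _
    rw [xMat_inr_inr, if_neg h1, if_neg (show ¬ s.val = D.negIdx.getD a.val 0 from h2), ChevalleyDatum.chainCoeff, h3,
      List.flatMap_nil, List.map_nil, List.sum_nil, add_zero, Pi.single_apply]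
    simp only [Sum.inr.injEq]

/-- the coroot as a vector -/
def hv (F : Type*) [Field F] (D : ChevalleyDatum) (s : ℕ) : D.Idx → F := Sum.elim (fun i => (cor D s i : F)) 0

theorem col_h (h : ∑ i : Fin D.rank, car D i a * cor D s i = 0) : D.xMat F a u *ᵥ hv F D s = hv F D s := by
  funext w
  rw [mulVec, dotProduct, Fintype.sum_sum_type, Finset.sum_eq_zero (s := (Finset.univ : Finset (Fin D.nroots)))
    fun x _ => mul_zero _, add_zero]
  rcases w with i | w
  · rw [Finset.sum_eq_single i, xMat_inl_inl, if_pos rfl, one_mul]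
    · intro j _ hj
      rw [xMat_inl_inl, if_neg hj.symm, zero_mul]
    · exact fun h => absurd (Finset.mem_univ _) h
  · by_cases e : w = a
    · have h1 := congrArg (fun z : ℤ => -((z : F) * u)) h
      simp only [Int.cast_sum, Int.cast_mul, Int.cast_zero, zero_mul, neg_zero, Finset.sum_mul,
        ← Finset.sum_neg_distrib] at h1
      refine Eq.trans (Finset.sum_congr rfl fun i _ => ?_) h1
      rw [xMat_inr_inl, if_pos e]
      show _ * (cor D s i : F) = _
      ring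
    · exact Finset.sum_eq_zero fun i _ => by rw [xMat_inr_inl, if_neg e, zero_mul]

end Rows

/-- the component of a root (`3` : none) -/
def cmp (s : ℕ) : ℕ := [0, 0, 3, 3, 3, 3, 3, 3, 3, 3, 3, 3, 3, 3, 1, 1, 3, 3, 3, 3, 3, 3, 3, 3, 3, 0, 3, 3, 3, 1, 3, 3, 3, 2, 2,
  2, 2, 2, 2, 3, 3, 3, 1, 3, 3, 3, 0, 3, 3, 3, 3, 3, 3, 3, 3, 3, 1, 1, 3, 3, 3, 3, 3, 3, 3, 3, 3, 3, 3, 3, 0, 0].getD s 3

theorem c1 : ∀ (s : Fin chevE6.nroots) (j : Fin 3),
    (∃ i i' : Fin 3, i ≠ i' ∧ ∀ m, vec chevE6 6 s m = ev6 j i m - ev6 j i' m) ↔ cmp s = j := by decide +kernel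

theorem c2 : ∀ a s : Fin chevE6.nroots, cmp a < 3 → cmp s < 3 → cmp a ≠ cmp s → s ≠ a ∧ s.val ≠ chevE6.neg a ∧
    (chevE6.chain.getD a #[]).toList.filter (fun e => e.1 = s.val) = [] ∧
    ∑ i : Fin chevE6.rank, car chevE6 i a * cor chevE6 s i = 0 := by decide +kernel

theorem c3 : ∀ a : Fin chevE6.nroots, cmp a < 3 → (∃ n : Fin chevE6.nroots, n.val = chevE6.neg a ∧ a.val = chevE6.neg n ∧
    n ≠ a ∧ cmp n = cmp a ∧ ∃ i : Fin chevE6.rank, cor chevE6 n i * cor chevE6 n i = 1) ∧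
    ∀ s : Fin chevE6.nroots, chevE6.chainCoeff a s a = [] := by decide +kernel

theorem c4 : ∀ i i' : Fin chevE6.rank, ∑ s : Fin chevE6.nroots, (if cmp s < 3 ∧ 36 ≤ s.val then
    car chevE6 i s * cor chevE6 s i' else 0) = if i = i' then 3 else 0 := by decide +kernel

theorem c5 : ∀ s : Fin chevE6.nroots, vec chevE6 6 s 3 % 3 = 0 → cmp s < 3 := by decide +kernel

theorem c6 : ∑ s : Fin chevE6.nroots, (if vec chevE6 6 s 3 % 3 = 0 then 1 else 0 : ℤ) = 18 ∧
    ∑ s : Fin chevE6.nroots, (if vec chevE6 6 s 3 % 3 = 1 then 1 else 0 : ℤ) = 27 ∧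
    ∑ s : Fin chevE6.nroots, (if vec chevE6 6 s 3 % 3 = 2 then 1 else 0 : ℤ) = 27 := by decide +kernel

variable {r : ℕ} [Fact r.Prime]

/-- the matrix of an element -/
noncomputable def mx (y : YY chevE6 r) : Matrix chevE6.Idx chevE6.Idx (KK r) := (y : GL chevE6.Idx (KK r))

theorem mx_mul (x y : YY chevE6 r) : mx (x * y) = mx x * mx y := rfl

theorem mx_one : mx (1 : YY chevE6 r) = 1 := rfl

theorem mx_xc (a : Fin chevE6.nroots) (u : KK r) : mx (xc hpE6 (vec chevE6 6 a) u) = chevE6.xMat (KK r) a u := by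
  unfold mx
  rw [coe_xc hpE6 a.2]
  exact dif_pos a.2

/-- the vectors fixed by a component -/
def Fx (j : Fin 3) (v : chevE6.Idx → KK r) : Prop := ∀ y ∈ MJ r j, mx y *ᵥ v = v

variable {j : Fin 3} {v : chevE6.Idx → KK r}

theorem fx_of (h : ∀ a : Fin chevE6.nroots, cmp a = j → ∀ u, chevE6.xMat (KK r) a u *ᵥ v = v) : Fx j v := by
  let S : Subgroup (YY chevE6 r) :=
    { carrier := {y | mx y *ᵥ v = v}
      one_mem' := by
        show mx 1 *ᵥ v = v
        rw [mx_one, one_mulVec]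
      mul_mem' := fun {x y} (hx : mx x *ᵥ v = v) (hy : mx y *ᵥ v = v) => by
        show mx (x * y) *ᵥ v = v
        rw [mx_mul, ← mulVec_mulVec, hy, hx]
      inv_mem' := fun {x} (hx : mx x *ᵥ v = v) => by
        show mx x⁻¹ *ᵥ v = v
        conv_lhs => rw [← hx]
        rw [mulVec_mulVec, ← mx_mul, inv_mul_cancel, mx_one, one_mulVec] }
  refine fun y hy => RGD.Sup_le (K := S) ?_ hy
  rintro _ ⟨i, i', h1, rfl⟩ x hx
  obtain ⟨-, a, ha⟩ := chk2 j i i' h1
  rw [← show vec chevE6 6 a = ev6 j i - ev6 j i' from funext ha] at hx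
  obtain ⟨u, hu⟩ := (LangThm.mem_XX_vec hpE6 a.2).1 hx
  show mx x *ᵥ v = v
  have e : mx x = chevE6.xMat (KK r) a u := by
    unfold mx
    rw [hu]
    exact dif_pos a.2
  rw [e]
  exact h a ((c1 a j).1 ⟨i, i', h1, ha⟩) u

theorem Fx.gen (h : Fx j v) {a : Fin chevE6.nroots} (ha : cmp a = j) (u : KK r) : chevE6.xMat (KK r) a u *ᵥ v = v := by
  obtain ⟨i, i', h1, h2⟩ := (c1 a j).2 ha
  rw [← mx_xc]
  exact h _ (RGD.le_Sup (S := Rts (ev6 j)) ⟨i, i', h1, funext h2⟩
    ((LangThm.mem_XX_vec hpE6 a.2).2 ⟨u, coe_xc hpE6 a.2 u⟩))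

theorem Fx.root (h : Fx j v) {a : Fin chevE6.nroots} (ha : cmp a = j) : v (.inr a) = 0 := by
  obtain ⟨⟨n, -, h2, h3, h4, i, h5⟩, -⟩ := c3 a (ha ▸ j.2)
  have h6 := congrFun (h.gen (h4.trans ha) 1) (.inl i)
  rw [row_inl h2 h3.symm, add_eq_left, mul_one] at h6
  have h7 : (cor chevE6 n i : KK r) * cor chevE6 n i = 1 := by exact_mod_cast congrArg (fun z : ℤ => (z : KK r)) h5
  rw [← one_mul (v _), ← h7, mul_assoc, h6, mul_zero]

theorem Fx.cart (h : Fx j v) {a : Fin chevE6.nroots} (ha : cmp a = j) :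
    ∑ i : Fin chevE6.rank, (car chevE6 i a : KK r) * v (.inl i) = 0 := by
  obtain ⟨⟨n, h1, -, -, h4, -⟩, h5⟩ := c3 a (ha ▸ j.2)
  have h6 := congrFun (h.gen ha 1) (.inr a)
  rwa [row_inr h1 (h.root (h4.trans ha)) h5, add_eq_right, one_mul, neg_eq_zero] at h6

variable {ζ : KK r} {t b : YY chevE6 r}

theorem mx_std (h : StdA ζ t) : mx t = diagonal (Sum.elim (fun _ => 1) fun s : Fin chevE6.nroots => ζ ^ vec chevE6 6 s 3) := by
  refine (H83.RootCount.coe_eq_diagonal hpE6 h.2.1).trans ?_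
  simp only [h.2.2]

theorem zpow_cases (hζ : IsPrimitiveRoot ζ 3) (g : ℤ) : ζ ^ g = ((if g % 3 = 0 then 1 else 0 : ℤ) : KK r) +
    (if g % 3 = 1 then 1 else 0 : ℤ) * ζ + (if g % 3 = 2 then 1 else 0 : ℤ) * ζ ^ 2 := by
  have h1 : ζ ^ g = ζ ^ (g % 3) := by
    conv_lhs => rw [← Int.mul_ediv_add_emod g 3, zpow_add₀ (hζ.ne_zero (by norm_num)), _root_.zpow_mul,
      show ζ ^ (3 : ℤ) = 1 from hζ.zpow_eq_one, _root_.one_zpow, one_mul]
  rw [h1]
  obtain h | h | h : g % 3 = 0 ∨ g % 3 = 1 ∨ g % 3 = 2 := by omega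
  all_goals simp [h]

theorem geom (hζ : IsPrimitiveRoot ζ 3) : 1 + ζ + ζ ^ 2 = 0 := by
  simpa [Finset.sum_range_succ] using hζ.geom_sum_eq_zero (by norm_num)

/-- the trace of an element of type `A₂³` -/
theorem trace_typA {y : YY chevE6 r} (h : TypA y) : trace (mx y) = -3 := by
  obtain ⟨g, ζ, h⟩ := h
  have h1 : trace (mx y) = trace (mx (g * y * g⁻¹)) := by
    rw [mx_mul, trace_mul_comm, ← mx_mul, inv_mul_cancel_left]
  have h2 := congrArg (fun z : ℤ => (z : KK r)) c6.1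
  have h3 := congrArg (fun z : ℤ => (z : KK r)) c6.2.1
  have h4 := congrArg (fun z : ℤ => (z : KK r)) c6.2.2
  simp only [Int.cast_sum] at h2 h3 h4
  rw [h1, mx_std h, trace_diagonal, Fintype.sum_sum_type]
  simp only [Sum.elim_inl, Sum.elim_inr, zpow_cases h.1]
  rw [Finset.sum_add_distrib, Finset.sum_add_distrib, ← Finset.sum_mul, ← Finset.sum_mul, h2, h3, h4, Finset.sum_const,
    Finset.card_univ, Fintype.card_fin, show chevE6.rank = 6 from rfl]
  push_cast
  linear_combination 27 * geom h.1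

/-- **the traces on a coset** -/
theorem trace_sum (h : StdA ζ t) (hb : ∀ j, ∃ j', j' ≠ j ∧ ∀ y ∈ MJ r j, b⁻¹ * y * b ∈ MJ r j') :
    trace (mx b) + trace (mx (t * b)) + trace (mx (t * t * b)) = 0 := by
  have h1 : ∀ s : Fin chevE6.nroots, cmp s < 3 → mx b (.inr s) (.inr s) = 0 ∧
      ∑ i : Fin chevE6.rank, (car chevE6 i s : KK r) * (mx b *ᵥ hv (KK r) chevE6 s) (.inl i) = 0 := fun s hs => by
    obtain ⟨j', h2, h3⟩ := hb ⟨cmp s, hs⟩
    have h4 : ∀ v, Fx j' v → Fx ⟨cmp s, hs⟩ (mx b *ᵥ v) := fun v hv y hy => by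
      conv_rhs => rw [← hv _ (h3 y hy)]
      rw [mulVec_mulVec, mulVec_mulVec, ← mx_mul, ← mx_mul, ← mul_assoc, mul_inv_cancel_left]
    have h5 := fun (a : Fin chevE6.nroots) (ha : cmp a = j') => c2 a s (ha ▸ j'.2) hs fun e => h2 (Fin.ext (ha.symm.trans e))
    refine ⟨?_, (h4 _ (fx_of fun a ha u => col_h (h5 a ha).2.2.2)).cart rfl⟩
    have h6 := (h4 _ (fx_of fun a ha u => col_e (h5 a ha).1 (h5 a ha).2.1 (h5 a ha).2.2.1)).root rfl
    rwa [mulVec_single_one] at h6
  have h2 : 3 * ∑ i : Fin chevE6.rank, mx b (.inl i) (.inl i) = 0 := by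
    have h3 : ∀ i : Fin chevE6.rank, 3 * mx b (.inl i) (.inl i) = ∑ s : Fin chevE6.nroots, if cmp s < 3 ∧ 36 ≤ s.val then
        (car chevE6 i s : KK r) * (mx b *ᵥ hv (KK r) chevE6 s) (.inl i) else 0 := fun i => by
      have h4 : 3 * mx b (.inl i) (.inl i) = ∑ i' : Fin chevE6.rank,
          ((if i = i' then 3 else 0 : ℤ) : KK r) * mx b (.inl i) (.inl i') := by
        rw [Finset.sum_eq_single i, if_pos rfl, Int.cast_ofNat]
        · intro i' _ h5
          rw [if_neg h5.symm, Int.cast_zero, zero_mul]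
        · exact fun h => absurd (Finset.mem_univ _) h
      simp only [h4, ← c4, Int.cast_sum, Finset.sum_mul]
      rw [Finset.sum_comm]
      refine Finset.sum_congr rfl fun s _ => ?_
      split_ifs
      · rw [mulVec, dotProduct, Fintype.sum_sum_type, Finset.sum_eq_zero (s := (Finset.univ : Finset (Fin chevE6.nroots)))
          fun x _ => mul_zero _, add_zero, Finset.mul_sum]
        refine Finset.sum_congr rfl fun i' _ => ?_
        show _ = _ * (_ * (cor chevE6 s i' : KK r))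
        push_cast
        ring
      · simp
    rw [Finset.mul_sum, Finset.sum_congr rfl fun i _ => h3 i, Finset.sum_comm]
    refine Finset.sum_eq_zero fun s _ => ?_
    split_ifs with h4
    · exact (h1 s h4.1).2
    · exact Finset.sum_const_zero
  rw [mx_mul, mx_mul, mx_mul, mx_std h, diagonal_mul_diagonal]
  simp only [trace, diag_apply, diagonal_mul, ← Finset.sum_add_distrib]
  simp only [Fintype.sum_sum_type, Sum.elim_inl, Sum.elim_inr]
  rw [← add_zero (0 : KK r)]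
  refine congrArg₂ (· + ·) (Eq.trans ?_ h2) (Finset.sum_eq_zero fun s _ => ?_)
  · rw [Finset.mul_sum]
    exact Finset.sum_congr rfl fun i _ => by ring
  · by_cases h3 : vec chevE6 6 s 3 % 3 = 0
    · rw [(h1 s (c5 s h3)).1]
      ring
    · have h4 := geom h.1
      have h5 := h.1.pow_eq_one
      rw [zpow_cases h.1]
      obtain h6 | h6 : vec chevE6 6 s 3 % 3 = 1 ∨ vec chevE6 6 s 3 % 3 = 2 := by omega
      · simp only [h6]
        norm_num
        linear_combination (mx b (.inr s) (.inr s)) * h4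
      · simp only [h6]
        norm_num
        linear_combination (mx b (.inr s) (.inr s)) * h4 + (mx b (.inr s) (.inr s)) * ζ * h5

/-- **no nontoral plane of type `A₂³`** -/
theorem noA (hr : r ≠ 3) (h : StdA ζ t) (hc : b * t = t * b) (hn : b ∉ DZ hpE6 r {t}) (h1 : TypA b) (h2 : TypA (t * b))
    (h3 : TypA (t * t * b)) : False := by
  have h4 := trace_sum h (b := b) fun j => by
    rcases r1_or hr h hc hn with h5 | h5
    · refine ⟨j - 1, by revert j; decide, fun y hy => (h5.conj h _ _).1 ?_⟩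
      rwa [sub_add_cancel, show b * (b⁻¹ * y * b) * b⁻¹ = y by group]
    · refine ⟨j + 1, by revert j; decide, fun y hy => ?_⟩
      simpa using (h5.conj h j y).2 hy
  rw [trace_typA h1, trace_typA h2, trace_typA h3] at h4
  have h5 : ((3 ^ 2 : ℕ) : KK r) = 0 := by
    push_cast
    linear_combination -h4
  exact hr ((Nat.prime_dvd_prime_iff_eq Fact.out Nat.prime_three).1
    ((Fact.out : r.Prime).dvd_of_dvd_pow ((CharP.cast_eq_zero_iff (KK r) r _).1 h5)))

end Cfsg.Agent.TO.E6.NA
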