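import Cfsg.Agent.TO.E6.Defs
import Cfsg.Agent.TO.E6A.Tr

/-!
# S4817, `E₆`, `p = 3`: the box `NoA` (helper39)
-/

set_option autoImplicit false

namespace Cfsg.Agent.TO.E6

/-- **[NoA]** -/
theorem boxNoA : NoA := fun _ _ hr _ _ _ h hc hn _ h1 h2 h3 => NA.noA hr h hc hn h1 h2 h3

end Cfsg.Agent.TO.E6
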